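import Groth.Agent.Div89.HomSheaf
import Groth.Agent.Amp73.Local
import Groth.Agent.Mero90.TensorLift
import Groth.Agent.Mero90.Frames

/-! Every invertible module has an inverse: its dual. -/

set_option autoImplicit false
set_option linter.style.haveILetI false
set_option backward.isDefEq.respectTransparency.types false

universe u

open CategoryTheory AlgebraicGeometry Opposite TopologicalSpace

noncomputable section

namespace Groth.Agent.An92.InvMod

open Var76.LineBundle

variable {X : Scheme.{u}} {L : X.Modules}

local notation "O" => Coh.structureModule X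

/-- Evaluation of a section of the dual on a section. -/
def ev {U : X.Opens} (m : Γ(L, U)) (g : Γ(RefHull.dual L, U)) : Γ(O, U) :=
  (Div89.homOnOfSec g).app U le_rfl m

lemma germ_ev {U : X.Opens} (m : Γ(L, U)) (g : Γ(RefHull.dual L, U)) (y : X) (hy : y ∈ U) :
    QC70.germM O U y hy (ev m g) = g.1 ⟨y, hy⟩ (QC70.germM L U y hy m) :=
  Div89.homOnOfSec_germ g le_rfl m y hy

lemma ext_germ {U : X.Opens} {a b : Γ(O, U)}
    (h : ∀ y (hy : y ∈ U), QC70.germM O U y hy a = QC70.germM O U y hy b) : a = b :=
  TopCat.Presheaf.section_ext (⟨Scheme.Modules.presheaf O, (O : X.Modules).isSheaf⟩ : TopCat.Sheaf Ab X) U a b h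

/-- The evaluation pairing. -/
def evPairing (L : X.Modules) : Mero90.Pairing L (RefHull.dual L) O where
  b _ m g := ev m g
  add_left _ m m' g := map_add _ m m'
  add_right _ m g g' := ext_germ fun y hy => by
    rw [QC70.germM_add, germ_ev, germ_ev, germ_ev]; rfl
  smul_left _ r m g := map_smul _ r m
  smul_right U r m g := ext_germ fun y hy => by
    rw [QC70.germM_smul, germ_ev, germ_ev]; rfl
  nat U V h m g := ext_germ fun y hy => by
    change QC70.germM O V y hy (ev (QC70.res L h m) (QC70.res (RefHull.dual L) h g)) =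
      QC70.germM O V y hy (QC70.res O h (ev m g))
    rw [QC70.germM_res, germ_ev, germ_ev, QC70.germM_res]; rfl

/-- The coordinate functional of a frame. -/
def coordHom {U : X.Opens} {e : Γ(L, U)} (he : IsFrame L U e) : QC70.HomOn L O U where
  app W hW :=
    (LinearEquiv.ofBijective (LinearMap.toSpanSingleton Γ(X, W) Γ(L, W) (res L hW e)) (he W hW)).symm.toLinearMap
  app_res {W W'} hW h m := by
    apply (he W' (h.trans hW)).1
    dsimp only
    have h1 : ∀ (V : X.Opens) (hV : V ≤ U) (n : Γ(L, V)),
        ((LinearEquiv.ofBijective (LinearMap.toSpanSingleton Γ(X, V) Γ(L, V) (res L hV e)) (he V hV)).symm n) •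
          res L hV e = n := fun V hV n =>
      (LinearEquiv.ofBijective (LinearMap.toSpanSingleton Γ(X, V) Γ(L, V) (res L hV e)) (he V hV)).apply_symm_apply n
    refine (h1 W' (h.trans hW) _).trans ?_
    conv_lhs => rw [← h1 W hW m]
    exact (res_smul L h _ _).trans (congrArg _ (res_res L _ _ _))

lemma ev_coord {U : X.Opens} {e : Γ(L, U)} (he : IsFrame L U e) :
    ev e (Div89.secOfHomOn (coordHom he)) = ((1 : Γ(X, U)) : Γ(O, U)) := by
  rw [ev, Div89.homOnOfSec_secOfHomOn]
  apply (he U le_rfl).1
  dsimp only
  rw [one_smul]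
  exact ((LinearEquiv.ofBijective (LinearMap.toSpanSingleton Γ(X, U) Γ(L, U) (res L le_rfl e)) (he U le_rfl)).apply_symm_apply e).trans
    (by simp [res])

theorem isFrame_dual {U : X.Opens} {e : Γ(L, U)} (he : IsFrame L U e) :
    IsFrame (RefHull.dual L) U (Div89.secOfHomOn (coordHom he)) := by
  intro V hV
  set g₀ := Div89.secOfHomOn (coordHom he)
  have hone : ev (res L hV e) (res (RefHull.dual L) hV g₀) = ((1 : Γ(X, V)) : Γ(O, V)) := by
    refine ((evPairing L).nat U V hV e g₀).trans ?_
    show QC70.res O hV (ev e g₀) = _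
    rw [ev_coord]
    exact map_one (X.presheaf.map (homOfLE hV).op).hom
  constructor
  · intro a b h
    have h1 := congrArg (ev (res L hV e)) h
    simp only [] at h1
    rw [show ev (res L hV e) (a • res _ hV g₀) = a • ev (res L hV e) (res _ hV g₀) from
        (evPairing L).smul_right V a _ _,
      show ev (res L hV e) (b • res _ hV g₀) = b • ev (res L hV e) (res _ hV g₀) from
        (evPairing L).smul_right V b _ _, hone] at h1
    exact (mul_one a).symm.trans (h1.trans (mul_one b))
  · intro g
    let a : Γ(X, V) := ev (res L hV e) g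
    refine ⟨a, ?_⟩
    refine Div89.sec_ext _ _ fun x hx => LinearMap.ext fun v => ?_
    obtain ⟨c, rfl⟩ := (Mero90.frame_germ_bijective (he.res hV) ⟨x, hx⟩).2 v
    dsimp only
    rw [map_smul, map_smul]
    refine congrArg (c • ·) ?_
    refine ((germ_ev (res L hV e) (a • res (RefHull.dual L) hV g₀) x hx).symm.trans ?_).trans
      (germ_ev (res L hV e) g x hx)
    refine congrArg _ ?_
    refine ((evPairing L).smul_right V a _ _).trans ?_
    refine (congrArg (a • ·) hone).trans ?_
    exact mul_one a

/-- An invertible module times its dual is trivial. -/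
theorem exists_inverse (hL : PicF.IsInvertible L) :
    ∃ N : X.Modules, PicF.IsInvertible N ∧ Nonempty (CohB1.tensorMod N L ≅ O) := by
  have hframe : ∀ x : X, ∃ U : X.Opens, x ∈ U ∧ ∃ e : Γ(L, U), IsFrame L U e := Mero90.exists_frame' hL
  choose U hx e he using hframe
  have : IsIso (evPairing L).lift := (evPairing L).isIso_lift fun x =>
    ⟨U x, e x, _, hx x, he x, isFrame_dual (he x), by
      show IsFrame O (U x) (ev (e x) (Div89.secOfHomOn (coordHom (he x))))
      rw [ev_coord]; exact Amp73.isFrame_one (U x)⟩
  refine ⟨RefHull.dual L, Mero90.isInvertible_of_frames fun x => ⟨U x, hx x, _, isFrame_dual (he x)⟩, ⟨?_⟩⟩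
  exact EGA73.tensComm _ _ ≪≫ asIso (evPairing L).lift

end Groth.Agent.An92.InvMod
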