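import Groth.Agent.Amp73.Ample
import Groth.Agent.Amp73.Powers
import Groth.Agent.Mero90.Sections
import Groth.Agent.Mero90.DivMod
import Groth.Agent.Mero90.MulDiv
import Groth.Agent.Div89.UFD
import Groth.Prelude.Def_MoreMor
import Mathlib.AlgebraicGeometry.Stalk
import Mathlib.AlgebraicGeometry.Noetherian
import Mathlib.AlgebraicGeometry.Limits

/-!
An ample family of invertible modules on a Noetherian scheme with factorial local rings and affine diagonal:
complements of dense affine opens are effective Cartier divisors.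
-/

universe u

open CategoryTheory Opposite AlgebraicGeometry TopologicalSpace

noncomputable section

namespace Groth.Agent.An92.AmpleFam

set_option linter.style.haveILetI false

open Amp73 Var76.LineBundle Var76.ZeroScheme

variable {X : Scheme.{u}}

/-- The divisor of an effective Cartier ideal. -/
theorem exists_isDivOfIdeal {I : X.IdealSheafData} (hI : BlowUp.IsEffCartierIdeal I) :
    ∃ D : Mero.Divisor X, Mero.IsDivOfIdeal D I ∧ Mero.IsEffective D := by
  choose U hx f hf hIU using hI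
  have hreg : ∀ x, f x ∈ Mero.regSub X (U x).1 := fun x => by
    rw [Mero90.regSub_eq_nonZeroDivisors (U x).2]; exact hf x
  let cl : ∀ (z y : X), y ∈ (U z).1 → Mero.Germ X y := fun z y hy =>
    QuotientGroup.mk (Mero90.regUnit y (Mero.regGerm ⟨y, hy⟩ ⟨f z, hreg z⟩))
  have key : ∀ (x z y : X) (h1 : y ∈ (U x).1) (h2 : y ∈ (U z).1), cl x y h1 = cl z y h2 := by
    intro x z y h1 h2
    obtain ⟨W, hW, hyW, hle⟩ :=
      exists_isAffineOpen_mem_and_subset (show y ∈ (U x).1 ⊓ (U z).1 from ⟨h1, h2⟩)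
    have hW1 : W ≤ (U x).1 := fun w hw => (hle hw).1
    have hW2 : W ≤ (U z).1 := fun w hw => (hle hw).2
    have e : Ideal.span {X.presheaf.map (homOfLE hW1).op (f x)} =
        Ideal.span {X.presheaf.map (homOfLE hW2).op (f z)} := by
      have a1 := I.map_ideal (U := ⟨W, hW⟩) (V := U x) hW1
      have a2 := I.map_ideal (U := ⟨W, hW⟩) (V := U z) hW2
      rw [hIU, Ideal.map_span, Set.image_singleton] at a1
      rw [hIU, Ideal.map_span, Set.image_singleton] at a2
      exact a1.trans a2.symm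
    have d1 := map_dvd (X.presheaf.germ W y hyW).hom (Ideal.span_singleton_le_span_singleton.mp e.le)
    have d2 := map_dvd (X.presheaf.germ W y hyW).hom (Ideal.span_singleton_le_span_singleton.mp e.ge)
    rw [TopCat.Presheaf.germ_res_apply, TopCat.Presheaf.germ_res_apply] at d1 d2
    refine QuotientGroup.eq_iff_div_mem.mpr ((Mero90.mk_mem_stalkUnits_iff _ _).mpr ?_)
    obtain ⟨p, hp⟩ := d1
    obtain ⟨q, hq⟩ := d2
    have hnz := mem_nonZeroDivisors_iff_right.mp (hreg z ⟨y, h2⟩)
    have hpq : p * q = 1 := by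
      refine sub_eq_zero.mp (hnz _ ?_)
      rw [sub_mul, one_mul, sub_eq_zero]
      calc p * q * _ = (X.presheaf.germ (U z).1 y h2 (f z) * p) * q := by ring
        _ = _ := by rw [← hp, ← hq]
    exact ⟨Units.mkOfMulEqOne p q hpq, hp.symm⟩
  refine ⟨⟨fun y => cl y y (hx y), fun x => ⟨(U x).1, hx x, Mero90.toKUnit ⟨f x, hreg x⟩, fun y => ?_⟩⟩,
    fun x => ⟨U x, hx x, f x, hreg x, hIU x, fun y => key y.1 x y.1 (hx y.1) y.2⟩,
    fun x => ⟨Mero.regGerm ⟨x, hx x⟩ ⟨f x, hreg x⟩, rfl⟩⟩
  change cl y.1 y.1 (hx y.1) = _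
  rw [key y.1 x y.1 (hx y.1) y.2, Mero.germOf, Mero90.evalK_toKUnit]

theorem notMem_support_iff {I : X.IdealSheafData} (U : X.affineOpens) {f : Γ(X, U.1)}
    (hI : I.ideal U = Ideal.span {f}) {y : X} (hy : y ∈ U.1) :
    y ∉ I.support ↔ IsUnit (X.presheaf.germ U.1 y hy f) := by
  have h : y ∈ (I.support : Set X) ↔ y ∈ X.zeroLocus (U := U.1) (I.ideal U : Set Γ(X, U.1)) := by
    have := congrArg (y ∈ ·) (I.coe_support_inter U)
    simp only [Set.mem_inter_iff, eq_iff_iff] at this
    simpa [hy] using this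
  rw [← SetLike.mem_coe, h, hI, Scheme.zeroLocus_span, Scheme.mem_zeroLocus_iff]
  simp only [Set.mem_singleton_iff, forall_eq, not_not]
  exact Scheme.mem_basicOpen X f y hy

/-- The generating locus of a section is the complement of its zero scheme. -/
theorem mem_genLocus_iff_notMem_support {L : X.Modules} (hL : PicF.IsInvertible L)
    (s : Coh.structureModule X ⟶ L) (y : X) :
    y ∈ CohB1.genLocus L s ↔ y ∉ (PicF2.zeroScheme L s).support := by
  obtain ⟨W, hy, -, e, he⟩ := Mero90.exists_affine_frame hL y ⊤ trivial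
  obtain ⟨c, hc⟩ := Amp73.exists_coord s he
  have hid := ideal_zeroScheme (Mero90.isFinLocFreeOfRank_of_isInvertible hL) W he hc
  rw [notMem_support_iff W hid hy, ← Scheme.mem_basicOpen X c y hy, ← genLocus_inf_eq_basicOpen s he hc]
  exact ⟨fun h => ⟨h, hy⟩, fun h => h.1⟩

/-- The complement of an effective Cartier divisor is the generating locus of a section of an
invertible module. -/
theorem exists_genLocus_of_effCartier [Nonempty X] {I : X.IdealSheafData} (hI : BlowUp.IsEffCartierIdeal I) :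
    ∃ (L : X.Modules) (s : Coh.structureModule X ⟶ L), PicF.IsInvertible L ∧
      (CohB1.genLocus L s : Set X) = (I.support : Set X)ᶜ := by
  obtain ⟨D, hDI, hD⟩ := exists_isDivOfIdeal hI
  obtain ⟨s, -, hs⟩ := Mero90.exists_section_of_effective _ (Mero90.isInvertible_divMod D) D hD (Iso.refl _)
  refine ⟨_, s, Mero90.isInvertible_divMod D, Set.ext fun y => ?_⟩
  rw [SetLike.mem_coe, mem_genLocus_iff_notMem_support (Mero90.isInvertible_divMod D), Set.mem_compl_iff,
    SetLike.mem_coe]
  obtain ⟨U, hyU, f, hf, hIU, hDU⟩ := hDI y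
  obtain ⟨V, hyV, g, hg, hZV, hDV⟩ := hs y
  rw [notMem_support_iff V hZV hyV, notMem_support_iff U hIU hyU]
  have hass : Associated (X.presheaf.germ V.1 y hyV g) (X.presheaf.germ U.1 y hyU f) := by
    have h : QuotientGroup.mk (Mero90.regUnit y (Mero.regGerm ⟨y, hyU⟩ ⟨f, hf⟩)) =
        (QuotientGroup.mk (Mero90.regUnit y (Mero.regGerm ⟨y, hyV⟩ ⟨g, hg⟩)) : Mero.Germ X y) :=
      (hDU ⟨y, hyU⟩).symm.trans (hDV ⟨y, hyV⟩)
    exact (Mero90.mk_mem_stalkUnits_iff _ _).mp (QuotientGroup.eq_iff_div_mem.mp h)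
  exact hass.isUnit_iff

/-- A point with a domain as local ring lies in a single irreducible component. -/
theorem eq_of_mem_irreducibleComponents (hdom : ∀ x : X, IsDomain (X.presheaf.stalk x)) {x : X}
    {Z W : Set X} (hZ : Z ∈ irreducibleComponents X) (hW : W ∈ irreducibleComponents X)
    (hxZ : x ∈ Z) (hxW : x ∈ W) : Z = W := by
  haveI := hdom x
  suffices h : ∀ {Z : Set X}, Z ∈ irreducibleComponents X → x ∈ Z →
      Z = closure {X.fromSpecStalk x ⟨⊥, Ideal.isPrime_bot⟩} from (h hZ hxZ).trans (h hW hxW).symm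
  intro Z hZ hxZ
  have hcl := isClosed_of_mem_irreducibleComponents Z hZ
  have hgen : IsGenericPoint hZ.1.genericPoint Z := by
    simpa [hcl.closure_eq] using hZ.1.isGenericPoint_genericPoint_closure
  set η := hZ.1.genericPoint
  obtain ⟨p, hp⟩ : η ∈ Set.range (X.fromSpecStalk x) := by
    rw [Scheme.range_fromSpecStalk]
    exact hgen.specializes hxZ
  set ζ := X.fromSpecStalk x ⟨⊥, Ideal.isPrime_bot⟩
  have hζ : ζ ⤳ η := by
    rw [← hp]
    exact ((PrimeSpectrum.le_iff_specializes _ p).mp bot_le).map (X.fromSpecStalk x).continuous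
  have hsub : Z ⊆ closure {ζ} := by
    rw [← hgen.def]
    exact closure_minimal (Set.singleton_subset_iff.mpr hζ.mem_closure) isClosed_closure
  exact le_antisymm hsub (hZ.2 isIrreducible_singleton.closure hsub)

/-- Every point lies in a dense affine open. -/
theorem exists_dense_affineOpen_mem [NoetherianSpace X] (hdom : ∀ x : X, IsDomain (X.presheaf.stalk x))
    (x : X) : ∃ U : X.Opens, x ∈ U ∧ IsAffineOpen U ∧ Dense (U : Set X) := by
  classical
  have hfin := NoetherianSpace.finite_irreducibleComponents (α := X)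
  let O : Set X → X.Opens := fun Z =>
    ⟨(⋃₀ (irreducibleComponents X \ {Z}))ᶜ, by
      rw [Set.sUnion_eq_biUnion, isOpen_compl_iff]
      exact hfin.sdiff.isClosed_biUnion fun W hW => isClosed_of_mem_irreducibleComponents W hW.1⟩
  have hOsub : ∀ Z ∈ irreducibleComponents X, (O Z : Set X) ⊆ Z := by
    intro Z hZ y hy
    by_contra h
    exact hy ⟨_, ⟨irreducibleComponent_mem_irreducibleComponents y,
      fun e => h (e ▸ mem_irreducibleComponent)⟩, mem_irreducibleComponent⟩
  have hsubO : ∀ Z ∈ irreducibleComponents X, Z ⊆ (O Z : Set X) := by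
    rintro Z hZ y hy ⟨W, ⟨hW, hne⟩, hyW⟩
    exact hne (eq_of_mem_irreducibleComponents hdom hW hZ hyW hy)
  have hne : ∀ Z ∈ irreducibleComponents X, ∃ U : X.Opens, IsAffineOpen U ∧ (U : Set X) ⊆ Z ∧
      (U : Set X).Nonempty ∧ (x ∈ Z → x ∈ U) := by
    intro Z hZ
    obtain ⟨y, hy, hxy⟩ : ∃ y ∈ Z, x ∈ Z → y = x := by
      by_cases h : x ∈ Z
      · exact ⟨x, h, fun _ => rfl⟩
      · obtain ⟨y, hy⟩ := hZ.1.nonempty
        exact ⟨y, hy, fun h' => absurd h' h⟩
    obtain ⟨U, hU, hyU, hle⟩ := exists_isAffineOpen_mem_and_subset (hsubO Z hZ hy)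
    exact ⟨U, hU, fun z hz => hOsub Z hZ (hle hz), ⟨y, hyU⟩, fun h => hxy h ▸ hyU⟩
  choose! U hU hUZ hUne hxU using hne
  refine ⟨⨆ Z ∈ irreducibleComponents X, U Z, ?_, IsAffineOpen.biSup_of_disjoint hfin
    (fun Z hZ => hU Z hZ) ?_, ?_⟩
  · exact SetLike.coe_subset_coe.mpr (le_iSup₂_of_le _ (irreducibleComponent_mem_irreducibleComponents x) le_rfl)
      (hxU _ (irreducibleComponent_mem_irreducibleComponents x) mem_irreducibleComponent)
  · intro Z hZ Z' hZ' hne
    simp only [Function.onFun, disjoint_iff, eq_bot_iff]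
    intro y hy
    exact hne (eq_of_mem_irreducibleComponents hdom hZ hZ' (hUZ Z hZ hy.1) (hUZ Z' hZ' hy.2))
  · rw [dense_iff_closure_eq, Set.eq_univ_iff_forall]
    intro y
    have hZ := irreducibleComponent_mem_irreducibleComponents y
    set Z := irreducibleComponent y
    refine closure_mono (SetLike.coe_subset_coe.mpr (le_iSup₂_of_le Z hZ le_rfl)) ?_
    exact (subset_closure_inter_of_isPreirreducible_of_isOpen hZ.1.isPreirreducible (U Z).isOpen
      (by rw [Set.inter_eq_right.mpr (hUZ Z hZ)]; exact hUne Z hZ)).trans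
        (closure_mono Set.inter_subset_right) mem_irreducibleComponent

/-- A Noetherian scheme with factorial local rings and affine diagonal has an ample family. -/
theorem hasAmpleFamily_of_factorial [CompactSpace X] [IsLocallyNoetherian X]
    (hfact : ∀ x : X, ∃ _ : IsDomain (X.presheaf.stalk x), UniqueFactorizationMonoid (X.presheaf.stalk x))
    (hdiag : ∀ U V : X.Opens, IsAffineOpen U → IsAffineOpen V → IsAffineOpen (U ⊓ V)) :
    MoreMor.HasAmpleFamily X := by
  haveI : IsNoetherian X := {}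
  refine ⟨inferInstance, fun x => ?_⟩
  haveI : Nonempty X := ⟨x⟩
  obtain ⟨U, hxU, hU, hdense⟩ := exists_dense_affineOpen_mem (fun x => (hfact x).1) x
  haveI : IsAffineHom U.ι := ⟨fun V hV => U.ι.isAffineOpen_iff_of_isOpenImmersion.1 (by
    rw [U.ι.image_preimage_eq_opensRange_inf, Scheme.Opens.opensRange_ι]; exact hdiag U V hU hV)⟩
  obtain ⟨I, hI, hsupp⟩ := Div89.exists_effCartier_compl U hdense
    (fun y _ => ⟨(hfact y).1, (hfact y).2⟩)
  obtain ⟨L, s, hL, hs⟩ := exists_genLocus_of_effCartier hI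
  have heq : CohB1.genLocus (CohB1.tensorPow L 1) (s ≫ (powOne L).inv) = U := by
    rw [genLocus_comp_iso]
    apply Opens.ext
    rw [hs, hsupp, compl_compl]
  exact ⟨L, 1, s ≫ (powOne L).inv, hL, le_rfl, heq.symm ▸ hxU, heq.symm ▸ hU⟩

end Groth.Agent.An92.AmpleFam
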