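import Groth.Agent.An92.Ample.Inverse
import Groth.Agent.Amp73.GlobGen
import Groth.Prelude.Def_KSix
import Groth.Prelude.Def_PerfAux

/-! Negative powers of an ample family generate finite type quasi-coherent modules. -/

set_option autoImplicit false
set_option linter.style.haveILetI false

universe u

open CategoryTheory CategoryTheory.Limits AlgebraicGeometry Opposite TopologicalSpace

noncomputable section

namespace Groth.Agent.An92.AmpleRes

open Amp73 Var76.LineBundle Var76.ZeroScheme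

variable {X : Scheme.{u}}

theorem isFinLocFree_biproduct {n : ℕ} (P : Fin n → X.Modules) (h : ∀ j, PicF.IsInvertible (P j)) :
    FlatMod.IsFinLocFree (⨁ P) := fun x => by
  choose W hxW hW using fun j => h j x
  let U : X.Opens := ⟨⋂ j, (W j : Set X), isOpen_iInter_of_finite fun j => (W j).2⟩
  have hle : ∀ j, U ≤ W j := fun j z hz => Set.mem_iInter.1 hz j
  let e := fun j => (EGA73.nonempty_restrict_iso_unit_of_le (hle j) (hW j)).some
  have : PreservesColimitsOfSize.{0, 0} (Scheme.Modules.restrictFunctor U.ι) :=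
    (Scheme.Modules.restrictAdjunction U.ι).leftAdjoint_preservesColimits
  exact ⟨U, n, Set.mem_iInter.2 hxW, ⟨(Scheme.Modules.restrictFunctor U.ι).mapIso (biproduct.isoCoproduct P) ≪≫
    PreservesCoproduct.iso (Scheme.Modules.restrictFunctor U.ι) P ≪≫ Sigma.mapIso fun j => e j⟩⟩

theorem exists_local_maps {ι : Type u} (L : ι → X.Modules) (hL : KSix.IsAmpleFamily L) {F : X.Modules}
    (hF : Coh.IsQCoh F) (hF' : F.IsFiniteType) (x : X) :
    ∃ (U : X.Opens) (_ : x ∈ U) (_ : IsAffineOpen U) (N : X.Modules) (_ : KSix.IsNegPower L N ∧ PicF.IsInvertible N)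
      (T : Finset (N ⟶ F)) (z : Γ(N, U)),
      Submodule.span Γ(X, U) ((fun φ : N ⟶ F => φ.app U z) '' (T : Set (N ⟶ F))) = ⊤ := by
  classical
  obtain ⟨hc, hqs, hinv, hcov⟩ := hL
  obtain ⟨i, n, s, hx, hU⟩ := hcov x
  have hM : PicF.IsInvertible (CohB1.tensorPow (L i) (n + 1)) := EGA73.isInvertible_tensorPow (hinv i) _
  let M := CohB1.tensorPow (L i) (n + 1)
  let U := CohB1.genLocus M s
  have : F.IsQuasicoherent := hF
  obtain ⟨G, hG⟩ := (QC70.finite_sections_of_isFiniteType F hU).fg_top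
  choose K hK using fun g : G => exists_tw_extend hM s hF g.1
  let k := ∑ g, K g + 1
  choose t ht using fun g : G => hK g k
    ((Finset.single_le_sum (f := K) (fun _ _ => Nat.zero_le _) (Finset.mem_univ g)).trans (Nat.le_succ _))
  obtain ⟨N, hN, ⟨β⟩⟩ := InvMod.exists_inverse (EGA73.isInvertible_tensorPow hM k)
  let P := CohB1.tensorPow M k
  let ψ : CohB1.tensorMod (CohB1.tensorMod F P) N ⟶ F :=
    (EGA73.tensAssoc' F P N ≪≫ EGA73.tensIso (Iso.refl F) (EGA73.tensComm P N ≪≫ β) ≪≫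
      EGA73.tensUnitRight F).hom
  have hp : IsFrame P U (epow (val M s U) k) := isFrame_epow (isFrame_genLocus s) k
  obtain ⟨z, hz⟩ := exists_eq_tm_frame (L := N) hp le_rfl
    (β.inv.app U ((1 : Γ(X, U)) : Γ(Coh.structureModule X, U)))
  rw [res_self] at hz
  have hzf : IsFrame N U z := by
    refine (isFrame_tm_right_iff hN hp).1 ?_
    rw [hz]
    exact (isFrame_app_iff β.inv _).2 (isFrame_one U)
  refine ⟨U, hx, hU, N, ⟨⟨i, (n + 1) * k, Nat.mul_pos (Nat.succ_pos n) (Nat.succ_pos _),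
    ⟨EGA73.tensIso (Iso.refl N) (powMul (L i) (n + 1) k).symm ≪≫ β⟩⟩, hN⟩,
    Finset.univ.image fun g : G => tmLeft (t g) N ≫ ψ, z, eq_top_iff.2 ?_⟩
  have hsp : Submodule.span Γ(X, U) (ψ.app U '' ((fun w => tm (CohB1.tensorMod F P) N w z) ''
      ((fun u => tm F P u (epow (val M s U) k)) '' (G : Set Γ(F, U))))) = ⊤ :=
    span_image_iso ψ (span_image_tm hzf (span_image_tm hp hG))
  refine hsp.ge.trans (Submodule.span_mono ?_)
  rintro _ ⟨_, ⟨_, ⟨g, hg, rfl⟩, rfl⟩, rfl⟩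
  refine ⟨tmLeft (t ⟨g, hg⟩) N ≫ ψ,
    Finset.mem_coe.2 (Finset.mem_image.2 ⟨⟨g, hg⟩, Finset.mem_univ _, rfl⟩), ?_⟩
  show ψ.app U ((tmLeft (t ⟨g, hg⟩) N).app U z) = _
  rw [tmLeft_app, ht]

theorem exists_epi_inAddL {ι : Type u} (L : ι → X.Modules) (hL : KSix.IsAmpleFamily L) (F : X.Modules)
    (hF : Coh.IsQCoh F) (hF' : F.IsFiniteType) :
    ∃ (M : X.Modules) (π : M ⟶ F), KSix.InAddL L M ∧ FlatMod.IsFinLocFree M ∧ Epi π := by
  classical
  have := hL.1
  choose U hxU hU N hN T z hsp using exists_local_maps L hL hF hF'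
  obtain ⟨S, hS⟩ := isCompact_univ.elim_finite_subcover (fun x => (U x : Set X)) (fun x => (U x).2)
    (fun x _ => Set.mem_iUnion.2 ⟨x, hxU x⟩)
  let J := Σ y : S, T y.1
  let e : J ≃ Fin (Fintype.card J) := Fintype.equivFin J
  let P : Fin (Fintype.card J) → X.Modules := fun j => N (e.symm j).1.1
  let φ : ∀ j, P j ⟶ F := fun j => (e.symm j).2.1
  refine ⟨⨁ P, (biproduct.isoCoproduct P).hom ≫ Sigma.desc φ,
    ⟨_, P, fun j => (hN _).1, ⟨Iso.refl _⟩⟩, isFinLocFree_biproduct P fun j => (hN _).2, ?_⟩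
  suffices Epi (Sigma.desc φ) from epi_comp _ _
  refine epi_desc_of_span_maps hF P φ fun x => ?_
  obtain ⟨y, hy, hxy⟩ := Set.mem_iUnion₂.1 (hS (Set.mem_univ x))
  let w : ∀ a : J, Γ(N a.1.1, U y) := fun a =>
    if h : a.1.1 = y then (congrArg (fun b => (Γ(N b, U y) : Type u)) h).mpr (z y) else 0
  refine ⟨U y, fun j => w (e.symm j), hxy, hU y, eq_top_iff.2 ((hsp y).ge.trans (Submodule.span_mono ?_))⟩
  rintro _ ⟨ψ, hψ, rfl⟩
  have key : ∀ a : J, a = ⟨⟨y, hy⟩, ⟨ψ, hψ⟩⟩ → a.2.1.app (U y) (w a) = ψ.app (U y) (z y) := by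
    rintro a rfl
    simp only [w, dif_pos]
    rfl
  exact ⟨e ⟨⟨y, hy⟩, ⟨ψ, hψ⟩⟩, key _ (e.symm_apply_apply _)⟩

end Groth.Agent.An92.AmpleRes
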